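import Mathlib.AlgebraicGeometry.AffineSpace
import Mathlib.AlgebraicGeometry.Morphisms.UniversallyOpen
import Mathlib.LinearAlgebra.TensorProduct.Finiteness

/-! # Universal openness is detected on polynomial rings -/

universe u

open CategoryTheory Limits AlgebraicGeometry TensorProduct TopologicalSpace

namespace GrothLib.UnivOpen

/-- Two primes with the same contraction have geometric points that agree. -/
theorem exists_common_field.{w₁, w₂, w₃} {S : Type w₁} {R : Type w₂} {P : Type w₃} [CommRing S] [CommRing R] [CommRing P] (f : S →+* R)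
    (g : S →+* P) (p : PrimeSpectrum R) (q : PrimeSpectrum P)
    (h : PrimeSpectrum.comap g q = PrimeSpectrum.comap f p) :
    ∃ (Ω : Type (max w₂ w₃)) (_ : Field Ω) (e₁ : R →+* Ω) (e₂ : P →+* Ω),
      RingHom.ker e₁ = p.asIdeal ∧ RingHom.ker e₂ = q.asIdeal ∧ e₁.comp f = e₂.comp g := by
  let o := PrimeSpectrum.comap f p
  have hq : o.asIdeal = q.asIdeal.comap g := (congrArg PrimeSpectrum.asIdeal h).symm
  letI f₁ : o.asIdeal.ResidueField →+* p.asIdeal.ResidueField :=
    Ideal.ResidueField.map o.asIdeal p.asIdeal f rfl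
  letI f₂ : o.asIdeal.ResidueField →+* q.asIdeal.ResidueField :=
    Ideal.ResidueField.map o.asIdeal q.asIdeal g hq
  letI := f₁.toAlgebra
  letI := f₂.toAlgebra
  obtain ⟨M, hM⟩ := Ideal.exists_maximal
    (p.asIdeal.ResidueField ⊗[o.asIdeal.ResidueField] q.asIdeal.ResidueField)
  letI := Ideal.Quotient.field M
  refine ⟨_, inferInstance, ((Ideal.Quotient.mk M).comp
      Algebra.TensorProduct.includeLeftRingHom).comp (algebraMap R p.asIdeal.ResidueField),
    ((Ideal.Quotient.mk M).comp
      Algebra.TensorProduct.includeRight.toRingHom).comp (algebraMap P q.asIdeal.ResidueField),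
    ?_, ?_, RingHom.ext fun x ↦ ?_⟩
  · ext x
    rw [RingHom.mem_ker, RingHom.comp_apply, map_eq_zero_iff _ (RingHom.injective _),
      Ideal.algebraMap_residueField_eq_zero]
  · ext x
    rw [RingHom.mem_ker, RingHom.comp_apply, map_eq_zero_iff _ (RingHom.injective _),
      Ideal.algebraMap_residueField_eq_zero]
  · show Ideal.Quotient.mk M (algebraMap R _ (f x) ⊗ₜ 1) =
      Ideal.Quotient.mk M (1 ⊗ₜ algebraMap P q.asIdeal.ResidueField (g x))
    congr 1
    rw [← Ideal.ResidueField.map_algebraMap o.asIdeal p.asIdeal f rfl,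
      ← Ideal.ResidueField.map_algebraMap o.asIdeal q.asIdeal g hq]
    exact Algebra.TensorProduct.tmul_one_eq_one_tmul (algebraMap S o.asIdeal.ResidueField x)

open MvPolynomial in
/-- The image of `D (∑ rᵢ ⊗ bᵢ)` is open if that of the universal linear form is. -/
theorem isOpen_image_basicOpen {A B R : Type u} [CommRing A] [CommRing B] [CommRing R]
    [Algebra A B] [Algebra A R] {σ : Type*} [Fintype σ] (b : σ → B) (r : σ → R)
    (h : IsOpen (PrimeSpectrum.comap (MvPolynomial.map (σ := σ) (algebraMap A B)) ''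
      (PrimeSpectrum.basicOpen (∑ i, X i * C (b i)) : Set (PrimeSpectrum (MvPolynomial σ B))))) :
    IsOpen (PrimeSpectrum.comap (algebraMap R (R ⊗[A] B)) ''
      (PrimeSpectrum.basicOpen (∑ i, r i ⊗ₜ[A] b i) : Set (PrimeSpectrum (R ⊗[A] B)))) := by
  classical
  let s : MvPolynomial σ A →+* R := (aeval r).toRingHom
  let t : MvPolynomial σ B →+* R ⊗[A] B :=
    eval₂Hom (Algebra.TensorProduct.includeRight : B →ₐ[A] R ⊗[A] B).toRingHom
      fun i ↦ r i ⊗ₜ 1
  let φ : MvPolynomial σ A →+* MvPolynomial σ B := MvPolynomial.map (algebraMap A B)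
  have hcomm : t.comp φ = (algebraMap R (R ⊗[A] B)).comp s := by
    refine MvPolynomial.ringHom_ext (fun a ↦ ?_) fun i ↦ ?_
    · simp [s, t, φ, Algebra.TensorProduct.algebraMap_apply]
    · simp [s, t, φ, Algebra.TensorProduct.algebraMap_apply]
  have ht : t (∑ i, X i * C (b i)) = ∑ i, r i ⊗ₜ[A] b i := by
    simp [t, Algebra.TensorProduct.tmul_mul_tmul]
  convert h.preimage (PrimeSpectrum.continuous_comap s) using 1
  ext p
  simp only [Set.mem_image, Set.mem_preimage, SetLike.mem_coe, PrimeSpectrum.mem_basicOpen]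
  constructor
  · rintro ⟨Q, hQ, rfl⟩
    refine ⟨PrimeSpectrum.comap t Q, by rw [← ht] at hQ; exact hQ, ?_⟩
    show PrimeSpectrum.comap (t.comp φ) Q = _
    rw [hcomm]
    rfl
  · rintro ⟨q, hq, hqp⟩
    obtain ⟨Ω, _, e₁, e₂, hk₁, hk₂, he'⟩ := exists_common_field s φ p q hqp
    have he : ∀ x, e₁ (s x) = e₂ (φ x) := RingHom.congr_fun he'
    letI : Algebra A Ω := (e₁.comp (algebraMap A R)).toAlgebra
    let gR : R →ₐ[A] Ω := ⟨e₁, fun _ ↦ rfl⟩
    let gB : B →ₐ[A] Ω := ⟨e₂.comp C, fun a ↦ by
      show e₂ (C (algebraMap A B a)) = e₁ (algebraMap A R a)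
      rw [show C (algebraMap A B a) = φ (C a) from (MvPolynomial.map_C _ a).symm, ← he]
      simp [s]⟩
    let g := Algebra.TensorProduct.lift gR gB fun _ _ ↦ Commute.all _ _
    refine ⟨⟨RingHom.ker g.toRingHom, RingHom.ker_isPrime _⟩, ?_, PrimeSpectrum.ext ?_⟩
    · have hgt : g.toRingHom.comp t = e₂ := by
        refine MvPolynomial.ringHom_ext (fun c ↦ ?_) fun i ↦ ?_
        · simp [g, t, gB, gR]
        · have := he (X i)
          simp [s, φ] at this
          simp [g, t, gB, gR, this]
      intro hQ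
      rw [← ht] at hQ
      have h0 : e₂ (∑ i, X i * C (b i)) = 0 := by rw [← hgt]; exact hQ
      exact hq (hk₂ ▸ h0)
    · ext x
      show g (x ⊗ₜ 1) = 0 ↔ _
      simp only [g, Algebra.TensorProduct.lift_tmul, map_one, mul_one]
      rw [← hk₁]
      rfl

/-- A map of affine schemes is universally open if the images of all linear forms are open. -/
theorem universallyOpen_Spec {A B : Type u} [CommRing A] [CommRing B] [Algebra A B]
    (h : ∀ (R : Type u) [CommRing R] [Algebra A R] (z : R ⊗[A] B),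
      IsOpen (PrimeSpectrum.comap (algebraMap R (R ⊗[A] B)) ''
        (PrimeSpectrum.basicOpen z : Set (PrimeSpectrum (R ⊗[A] B))))) :
    UniversallyOpen (Spec.map (CommRingCat.ofHom (algebraMap A B))) := by
  refine ⟨MorphismProperty.universally_mk' _ _ fun {T} g _ ↦ ?_⟩
  wlog hT : ∃ R, T = Spec R generalizing T
  · refine (IsZariskiLocalAtTarget.iff_of_openCover T.affineCover).mpr fun i ↦ ?_
    refine (MorphismProperty.cancel_left_of_respectsIso _
      ((pullbackRightPullbackFstIso ..).inv ≫ (pullbackSymmetry ..).hom) _).mp ?_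
    simpa [Scheme.Cover.pullbackHom] using! this _ _ ⟨_, rfl⟩
  obtain ⟨R, rfl⟩ := hT
  obtain ⟨ψ, rfl⟩ := Spec.map_surjective g
  algebraize [ψ.hom]
  refine (MorphismProperty.cancel_left_of_respectsIso _ (pullbackSpecIso A R B).inv _).mp ?_
  convert_to! topologically _ (Spec.map <| CommRingCat.ofHom (algebraMap R (TensorProduct A R B)))
  · exact pullbackSpecIso_inv_fst ..
  show IsOpenMap (PrimeSpectrum.comap (algebraMap R (R ⊗[A] B)))
  rw [PrimeSpectrum.isTopologicalBasis_basic_opens.isOpenMap_iff]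
  rintro _ ⟨z, rfl⟩
  exact h R z

end GrothLib.UnivOpen
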