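import Groth.Agent.Lib.UnivOpen.LinearForm

/-! # Universal openness and affine spaces -/

universe u

open CategoryTheory Limits AlgebraicGeometry TensorProduct TopologicalSpace

namespace GrothLib.UnivOpen

theorem universallyOpen_Spec_of_isOpenMap_polynomial {A B : Type u} [CommRing A] [CommRing B]
    [Algebra A B] (h : ∀ n : ℕ, IsOpenMap (PrimeSpectrum.comap
      (MvPolynomial.map (σ := ULift.{u} (Fin n)) (algebraMap A B)))) :
    UniversallyOpen (Spec.map (CommRingCat.ofHom (algebraMap A B))) := by
  refine universallyOpen_Spec fun R _ _ z ↦ ?_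
  classical
  obtain ⟨t, rfl⟩ := TensorProduct.exists_finset z
  rw [← Finset.sum_coe_sort t]
  let e : ULift.{u} (Fin t.card) ≃ t := Equiv.ulift.trans t.equivFin.symm
  rw [← e.sum_comp]
  exact isOpen_image_basicOpen _ _ ((h t.card) _ (PrimeSpectrum.basicOpen _).2)

theorem isOpenMap_map_of_universallyOpen {X S : Scheme.{u}} (f : X ⟶ S) [UniversallyOpen f]
    (n : Type u) : IsOpenMap (AffineSpace.map n f) := by
  haveI : UniversallyOpen (AffineSpace.map n f) :=
    MorphismProperty.of_isPullback (AffineSpace.isPullback_map f).flip ‹_›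
  exact (AffineSpace.map n f).isOpenMap

theorem isOpenEmbedding_map {X S : Scheme.{u}} (f : X ⟶ S) [IsOpenImmersion f] (n : Type u) :
    Topology.IsOpenEmbedding (AffineSpace.map n f) := by
  haveI : IsOpenImmersion (AffineSpace.map n f) :=
    MorphismProperty.of_isPullback (AffineSpace.isPullback_map f).flip ‹_›
  exact (AffineSpace.map n f).isOpenEmbedding

theorem universallyOpen_SpecMap_of_isOpenMap_map {X S : Scheme.{u}} (f : X ⟶ S)
    (h : ∀ n : ℕ, IsOpenMap (AffineSpace.map (ULift.{u} (Fin n)) f)) {R T : CommRingCat.{u}}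
    (φ : R ⟶ T) (l : Spec T ⟶ X) (k : Spec R ⟶ S) [IsOpenImmersion l] [IsOpenImmersion k]
    (hsq : l ≫ f = Spec.map φ ≫ k) : UniversallyOpen (Spec.map φ) := by
  letI := φ.hom.toAlgebra
  suffices ∀ n, IsOpenMap (PrimeSpectrum.comap (MvPolynomial.map (σ := ULift.{u} (Fin n)) φ.hom))
    from universallyOpen_Spec_of_isOpenMap_polynomial this
  intro n
  have hcomp : ∀ z, AffineSpace.map (ULift.{u} (Fin n)) k (AffineSpace.map _ (Spec.map φ) z) =
      AffineSpace.map _ f (AffineSpace.map _ l z) := fun z ↦ by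
    rw [← Scheme.Hom.comp_apply, ← Scheme.Hom.comp_apply, ← AffineSpace.map_comp,
      ← AffineSpace.map_comp, hsq]
  have hopen : IsOpenMap (AffineSpace.map (ULift.{u} (Fin n)) (Spec.map φ)) := by
    intro U hU
    rw [(isOpenEmbedding_map k _).isOpen_iff_image_isOpen, ← Set.image_comp,
      show (AffineSpace.map _ k ∘ AffineSpace.map (ULift.{u} (Fin n)) (Spec.map φ) : _ → _) =
        AffineSpace.map _ f ∘ AffineSpace.map _ l from funext hcomp, Set.image_comp]
    exact h n _ ((isOpenEmbedding_map l _).isOpenMap U hU)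
  exact (MorphismProperty.arrow_mk_iso_iff (topologically @IsOpenMap)
    (AffineSpace.mapSpecMap (n := ULift.{u} (Fin n)) φ)).mp hopen

theorem universallyOpen_of_isOpenMap_map {X S Y Z : Scheme.{u}} (f : X ⟶ S)
    (h : ∀ n : ℕ, IsOpenMap (AffineSpace.map (ULift.{u} (Fin n)) f)) [IsAffine Y] [IsAffine Z]
    (g : Y ⟶ Z) (l : Y ⟶ X) (k : Z ⟶ S) [IsOpenImmersion l] [IsOpenImmersion k]
    (hsq : l ≫ f = g ≫ k) : UniversallyOpen g := by
  rw [MorphismProperty.arrow_mk_iso_iff @UniversallyOpen (arrowIsoSpecΓOfIsAffine g)]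
  refine universallyOpen_SpecMap_of_isOpenMap_map f h g.appTop (Y.isoSpec.inv ≫ l)
    (Z.isoSpec.inv ≫ k) ?_
  rw [Category.assoc, hsq, Scheme.isoSpec_inv_naturality_assoc]

/-- Universal openness is detected by affine spaces. -/
theorem universallyOpen_iff_isOpenMap_map {X S : Scheme.{u}} (f : X ⟶ S) :
    UniversallyOpen f ↔ ∀ n : ℕ, IsOpenMap (AffineSpace.map (ULift.{u} (Fin n)) f) := by
  refine ⟨fun _ n ↦ isOpenMap_map_of_universallyOpen f _, fun h ↦ ?_⟩
  exact (IsZariskiLocalAtTarget.iff_of_openCover (P := @UniversallyOpen) S.affineCover).mpr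
    fun i ↦ (IsZariskiLocalAtSource.iff_of_openCover (P := @UniversallyOpen)
      (pullback f (S.affineCover.f i)).affineCover).mpr fun j ↦
        universallyOpen_of_isOpenMap_map f h
          ((pullback f (S.affineCover.f i)).affineCover.f j ≫ pullback.snd f _)
          ((pullback f (S.affineCover.f i)).affineCover.f j ≫ pullback.fst f (S.affineCover.f i))
          (S.affineCover.f i) (by simp [pullback.condition])

theorem isOpenMap_polynomial_of_universallyOpen {A B : Type u} [CommRing A] [CommRing B]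
    [Algebra A B] [UniversallyOpen (Spec.map (CommRingCat.ofHom (algebraMap A B)))] (σ : Type u) :
    IsOpenMap (PrimeSpectrum.comap (MvPolynomial.map (σ := σ) (algebraMap A B))) :=
  (MorphismProperty.arrow_mk_iso_iff (topologically @IsOpenMap)
    (AffineSpace.mapSpecMap (n := σ) (CommRingCat.ofHom (algebraMap A B)))).mp
      (isOpenMap_map_of_universallyOpen _ σ)

/-- For a module-finite algebra, universal openness is detected by one linear form. -/
theorem universallyOpen_iff_linearForm {A B : Type u} [CommRing A] [CommRing B] [Algebra A B]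
    {σ : Type} [Fintype σ] (b : σ → B) (hb : Submodule.span A (Set.range b) = ⊤) :
    UniversallyOpen (Spec.map (CommRingCat.ofHom (algebraMap A B))) ↔
      IsOpen (PrimeSpectrum.comap (MvPolynomial.map (σ := σ) (algebraMap A B)) ''
        (PrimeSpectrum.basicOpen (∑ i, MvPolynomial.X i * MvPolynomial.C (b i)) :
          Set (PrimeSpectrum (MvPolynomial σ B)))) := by
  refine ⟨fun hu ↦ ?_, fun h ↦ universallyOpen_Spec fun R _ _ z ↦ ?_⟩
  · let σ' := ULift.{u} σ
    let e : σ' ≃ σ := Equiv.ulift
    have h := (isOpenMap_polynomial_of_universallyOpen (A := A) (B := B) σ') _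
      (PrimeSpectrum.basicOpen (∑ i : σ', MvPolynomial.X i * MvPolynomial.C (b (e i)))).2
    let α := PrimeSpectrum.homeomorphOfRingEquiv (MvPolynomial.renameEquiv A e).toRingEquiv
    convert α.isOpenMap _ h using 1
    ext p
    simp only [Set.mem_image, SetLike.mem_coe, PrimeSpectrum.mem_basicOpen]
    constructor
    · rintro ⟨q, hq, rfl⟩
      refine ⟨_, ⟨PrimeSpectrum.comap (MvPolynomial.rename e).toRingHom q, ?_, rfl⟩, ?_⟩
      · show MvPolynomial.rename e (∑ i : σ', _) ∉ q.asIdeal
        rw [map_sum, ← e.symm.sum_comp]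
        simpa using hq
      · apply PrimeSpectrum.ext
        ext x
        simp [α, PrimeSpectrum.homeomorphOfRingEquiv, MvPolynomial.map_rename, MvPolynomial.rename_rename]
    · rintro ⟨_, ⟨q, hq, rfl⟩, rfl⟩
      refine ⟨PrimeSpectrum.comap (MvPolynomial.rename e.symm).toRingHom q, ?_, ?_⟩
      · show MvPolynomial.rename e.symm (∑ i : σ, _) ∉ q.asIdeal
        rw [map_sum, ← e.sum_comp]
        simpa using hq
      · apply PrimeSpectrum.ext
        ext x
        simp [α, PrimeSpectrum.homeomorphOfRingEquiv, MvPolynomial.map_rename]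
  · have hz : ∃ r : σ → R, z = ∑ i, r i ⊗ₜ[A] b i := by
      induction z with
      | zero => exact ⟨0, by simp⟩
      | tmul a c =>
        obtain ⟨a', rfl⟩ := (Submodule.mem_span_range_iff_exists_fun A).mp
          (hb ▸ Submodule.mem_top : c ∈ Submodule.span A (Set.range b))
        exact ⟨fun i ↦ a' i • a, by simp [TensorProduct.tmul_sum, TensorProduct.smul_tmul]⟩
      | add x y hx hy =>
        obtain ⟨r, rfl⟩ := hx
        obtain ⟨r', rfl⟩ := hy
        exact ⟨r + r', by simp [TensorProduct.add_tmul, Finset.sum_add_distrib]⟩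
    obtain ⟨r, rfl⟩ := hz
    exact isOpen_image_basicOpen b r h

end GrothLib.UnivOpen
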